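import Mathlib

/-!
# Distinguishing colourings for `p`-groups of permutations, `p` odd (helper124)

`exists_color` : a `p`-group of permutations, `p` odd, of a finite set has a colouring with two colours preserved by the
identity only.
-/

set_option autoImplicit false

namespace Cfsg.Agent.H124.Sy

open Equiv Equiv.Perm

/-- the induced permutations of the cycles of a central element -/
noncomputable def quo {Ω : Type*} {P : Subgroup (Perm Ω)} {z : Perm Ω} (hz : ∀ g ∈ P, g * z = z * g) :
    P →* Perm (Quotient (SameCycle.setoid z)) where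
  toFun g := Quotient.congr (g : Perm Ω) (fun a b => by
    have h : ∀ k : ℤ, ∀ a, (g : Perm Ω) ((z ^ k) a) = (z ^ k) ((g : Perm Ω) a) := fun k a => by
      have h1 : (g : Perm Ω) * z ^ k = z ^ k * (g : Perm Ω) :=
        (Commute.zpow_right (show Commute (g : Perm Ω) z from hz g g.2) k)
      exact congrArg (fun f : Perm Ω => f a) h1
    constructor
    · rintro ⟨k, hk⟩
      exact ⟨k, by rw [← h, hk]⟩
    · rintro ⟨k, hk⟩
      refine ⟨k, ?_⟩
      rw [← h] at hk
      exact (g : Perm Ω).injective hk)
  map_one' := by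
    ext a
    induction a using Quotient.inductionOn
    rfl
  map_mul' g h := by
    ext a
    induction a using Quotient.inductionOn
    rfl

theorem quo_mk {Ω : Type*} {P : Subgroup (Perm Ω)} {z : Perm Ω} (hz : ∀ g ∈ P, g * z = z * g) (g : P) (a : Ω) :
    quo hz g (Quotient.mk (SameCycle.setoid z) a) = Quotient.mk (SameCycle.setoid z) ((g : Perm Ω) a) := rfl

theorem exists_color_aux {p : ℕ} [hp : Fact p.Prime] (hp2 : p ≠ 2) (n : ℕ) :
    ∀ (Ω : Type) [Finite Ω], Nat.card Ω = n → ∀ P : Subgroup (Perm Ω), IsPGroup p P →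
      ∃ c : Ω → Bool, ∀ g ∈ P, (∀ a, c (g a) = c a) → g = 1 := by
  induction n using Nat.strong_induction_on with
  | _ n ih =>
  intro Ω _ hn P hP
  by_cases hbot : P = ⊥
  · refine ⟨fun _ => true, fun g hg _ => ?_⟩
    rw [hbot] at hg
    exact Subgroup.mem_bot.1 hg
  have hnt : Nontrivial P := (Subgroup.nontrivial_iff_ne_bot P).2 hbot
  have hcen : Nontrivial (Subgroup.center P) := hP.center_nontrivial
  have hdvd : p ∣ Nat.card (Subgroup.center P) := by
    have hcp : IsPGroup p (Subgroup.center P) := hP.to_subgroup _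
    obtain ⟨k, hk⟩ := hcp.exists_card_eq
    rcases Nat.eq_zero_or_pos k with h0 | h0
    · subst h0
      have := Finite.one_lt_card_iff_nontrivial.2 hcen
      rw [hk, pow_zero] at this
      exact absurd this (lt_irrefl 1)
    · rw [hk]
      exact dvd_pow_self p h0.ne'
  obtain ⟨z', hz'⟩ := exists_prime_orderOf_dvd_card' p hdvd
  let z : Perm Ω := ((z' : P) : Perm Ω)
  have hzord : orderOf z = p := by
    rw [← hz', ← Subgroup.orderOf_coe z', ← Subgroup.orderOf_coe (z' : P)]
  have hzc : ∀ g ∈ P, g * z = z * g := fun g hg => by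
    have h1 := Subgroup.mem_center_iff.1 z'.2 ⟨g, hg⟩
    exact congrArg Subtype.val h1
  have hz1 : z ≠ 1 := by
    intro h
    rw [h, orderOf_one] at hzord
    exact hp.out.one_lt.ne hzord
  -- `z² a = a` implies `z a = a`
  have hsq : ∀ a, z (z a) = a → z a = a := by
    intro a ha
    have hodd : Odd p := hp.out.odd_of_ne_two hp2
    obtain ⟨k, hk⟩ := hodd
    have h1 : ∀ j : ℕ, (z ^ (2 * j)) a = a := by
      intro j
      induction j with
      | zero => rfl
      | succ j ihj =>
        rw [Nat.mul_succ, pow_add, Perm.mul_apply]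
        have : (z ^ 2) a = a := by rw [pow_two, Perm.mul_apply, ha]
        rw [this, ihj]
    have h2 : z ^ p = 1 := by rw [← hzord, pow_orderOf_eq_one]
    have h3 : (z ^ (2 * k + 1)) a = a := by rw [← hk, h2]; rfl
    rw [pow_succ', Perm.mul_apply, h1] at h3
    exact h3
  let Ω' : Type := Quotient (SameCycle.setoid z)
  have hlt : Nat.card Ω' < n := by
    rw [← hn]
    have : Fintype Ω := Fintype.ofFinite Ω
    have : Fintype Ω' := Fintype.ofFinite Ω'
    rw [Nat.card_eq_fintype_card, Nat.card_eq_fintype_card]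
    apply Fintype.card_lt_of_surjective_not_injective (Quotient.mk (SameCycle.setoid z)) Quotient.mk_surjective
    intro hinj
    apply hz1
    ext a
    exact (hinj (Quotient.sound (show SameCycle z a (z a) from ⟨1, by simp⟩))).symm
  obtain ⟨c', hc'⟩ := ih _ hlt Ω' rfl (quo hzc).range (by
    rintro ⟨_, g, rfl⟩
    obtain ⟨k, hk⟩ := hP g
    refine ⟨k, ?_⟩
    apply Subtype.ext
    rw [SubmonoidClass.coe_pow, ← map_pow, hk, map_one]
    rfl)
  classical
  -- representatives
  let rep : Ω → Ω := fun a => (Quotient.mk (SameCycle.setoid z) a).out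
  have hrep : ∀ a, Quotient.mk (SameCycle.setoid z) (rep a) = Quotient.mk (SameCycle.setoid z) a := fun a =>
    Quotient.out_eq _
  have hrep' : ∀ a b, Quotient.mk (SameCycle.setoid z) a = Quotient.mk (SameCycle.setoid z) b → rep a = rep b := by
    intro a b h
    show (Quotient.mk (SameCycle.setoid z) a).out = (Quotient.mk (SameCycle.setoid z) b).out
    rw [h]
  have hzmk : ∀ a, Quotient.mk (SameCycle.setoid z) (z a) = Quotient.mk (SameCycle.setoid z) a := fun a =>
    (Quotient.sound (show SameCycle z a (z a) from ⟨1, by simp⟩)).symm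
  let c : Ω → Bool := fun a => if a = rep a then c' (Quotient.mk (SameCycle.setoid z) a) else
    !c' (Quotient.mk (SameCycle.setoid z) a)
  refine ⟨c, fun g hg hgc => ?_⟩
  have key : ∀ a, c' (Quotient.mk (SameCycle.setoid z) (g a)) = c' (Quotient.mk (SameCycle.setoid z) a) := by
    -- it is enough to find a point of the cycle such that it and its image are both (or both not) representatives
    have h1 : ∀ x, ((x = rep x) ↔ (g x = rep (g x))) →
        c' (Quotient.mk (SameCycle.setoid z) (g x)) = c' (Quotient.mk (SameCycle.setoid z) x) := by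
      intro x hx
      have h2 := hgc x
      simp only [c] at h2
      by_cases h3 : x = rep x
      · rw [if_pos h3, if_pos (hx.1 h3)] at h2
        exact h2
      · rw [if_neg h3, if_neg (fun h => h3 (hx.2 h))] at h2
        exact Bool.not_inj h2
    have hmv : ∀ a x, Quotient.mk (SameCycle.setoid z) a = Quotient.mk (SameCycle.setoid z) x →
        Quotient.mk (SameCycle.setoid z) (g a) = Quotient.mk (SameCycle.setoid z) (g x) := by
      intro a x h
      rw [← quo_mk hzc ⟨g, hg⟩, ← quo_mk hzc ⟨g, hg⟩, h]
    intro a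
    -- the representative
    let r := rep a
    have hra : Quotient.mk (SameCycle.setoid z) r = Quotient.mk (SameCycle.setoid z) a := hrep a
    have hrr : rep r = r := hrep' _ _ hra
    have hzr : rep (z r) = r := (hrep' _ _ (hzmk r)).trans hrr
    have hzzr : rep (z (z r)) = r := (hrep' _ _ (hzmk (z r))).trans hzr
    have hgz : ∀ b, g (z b) = z (g b) := fun b => congrArg (fun f : Perm Ω => f b) (hzc g hg)
    have hgr : rep (g (z r)) = rep (g r) := hrep' _ _ (hmv _ _ (hzmk r))
    have hgr2 : rep (g (z (z r))) = rep (g r) := hrep' _ _ (hmv _ _ ((hzmk (z r)).trans (hzmk r)))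
    by_cases hfix : z r = r
    · -- fixed point
      have h4 : ∀ x, z x = x → x = rep x := by
        intro x hx
        have h5 : SameCycle z (rep x) x := Quotient.exact (hrep x)
        obtain ⟨k, hk⟩ := h5
        have h6 : (z ^ (-k)) x = x := by
          rw [Perm.zpow_apply_eq_self_of_apply_eq_self hx]
        rw [← hk, ← Perm.mul_apply, ← zpow_add, neg_add_cancel, zpow_zero, Perm.one_apply] at h6
        rw [hk] at h6
        exact h6.symm
      rw [← hra, hmv a r hra.symm]
      apply h1
      have h5 : z (g r) = g r := by rw [← hgz, hfix]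
      exact ⟨fun _ => h4 _ h5, fun _ => h4 _ hfix⟩
    · have hne1 : z r ≠ rep (z r) := by rw [hzr]; exact hfix
      have hne2 : z (z r) ≠ rep (z (z r)) := by
        rw [hzzr]
        exact fun h => hfix (hsq r h)
      have hne3 : z (z r) ≠ z r := fun h => hfix (z.injective h)
      by_cases h7 : g (z r) = rep (g r)
      · have h8 : g (z (z r)) ≠ rep (g (z (z r))) := by
          rw [hgr2, ← h7]
          exact fun h => hne3 (g.injective h)
        have h9 := h1 (z (z r)) ⟨fun h => absurd h hne2, fun h => absurd h h8⟩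
        rw [hmv a (z (z r)) (hra.symm.trans ((hzmk (z r)).trans (hzmk r)).symm), h9, hzmk, hzmk, hra]
      · have h8 : g (z r) ≠ rep (g (z r)) := by rw [hgr]; exact h7
        have h9 := h1 (z r) ⟨fun h => absurd h hne1, fun h => absurd h h8⟩
        rw [hmv a (z r) (hra.symm.trans (hzmk r).symm), h9, hzmk, hra]
  have h1 : quo hzc ⟨g, hg⟩ = 1 := by
    apply hc' _ ⟨_, rfl⟩
    intro a
    induction a using Quotient.inductionOn with
    | h a => exact key a
  have h2 : ∀ a, Quotient.mk (SameCycle.setoid z) (g a) = Quotient.mk (SameCycle.setoid z) a := fun a => by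
    rw [← quo_mk hzc ⟨g, hg⟩, h1]
    rfl
  have h3 : ∀ a, a = rep a → g a = a := by
    intro a ha
    by_contra hne
    have h4 := hgc a
    have h5 : rep (g a) = a := (hrep' _ _ (h2 a)).trans ha.symm
    have h6 : g a ≠ rep (g a) := by rw [h5]; exact hne
    simp only [c] at h4
    rw [if_neg h6, if_pos ha, h2] at h4
    revert h4
    cases c' (Quotient.mk (SameCycle.setoid z) a) <;> simp
  ext a
  obtain ⟨k, hk⟩ : SameCycle z (rep a) a := Quotient.exact (hrep a)
  have h4 : g (rep a) = rep a := h3 _ (hrep' _ _ (hrep a)).symm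
  have h5 : g * z ^ k = z ^ k * g := (Commute.zpow_right (show Commute g z from hzc g hg) k)
  have h6 := congrArg (fun f : Perm Ω => f (rep a)) h5
  simp only [Perm.mul_apply] at h6
  rw [hk, h4, hk] at h6
  exact h6

/-- **Distinguishing colourings.** -/
theorem exists_color {p : ℕ} [hp : Fact p.Prime] (hp2 : p ≠ 2) {Ω : Type} [Finite Ω] (P : Subgroup (Perm Ω))
    (hP : IsPGroup p P) : ∃ c : Ω → Bool, ∀ g ∈ P, (∀ a, c (g a) = c a) → g = 1 :=
  exists_color_aux hp2 _ Ω rfl P hP

end Cfsg.Agent.H124.Sy
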