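import Cfsg.Agent.H124.Sy.Color
import Cfsg.Agent.H68.MeetBase

/-!
# `3`-subgroups of `GL_n(2)` and regular intersections (helper124)

`V = K^m × F_2^ε`, `|K| = 4`; `Mon` the monomial group; a `3`-subgroup of `Mon` meets a conjugate by a transvection
trivially.
-/

set_option autoImplicit false
set_option linter.unusedSectionVars false

namespace Cfsg.Agent.H124.Sy

open Equiv Module

section model

variable {K U : Type} [Field K] [Fintype K] [Algebra (ZMod 2) K] [AddCommGroup U] [Module (ZMod 2) U] {m : ℕ}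

/-- the monomial map -/
def mono (a : Fin m → Kˣ) (σ : Perm (Fin m)) (v : (Fin m → K) × U) : (Fin m → K) × U :=
  (fun i => (a i : K) * v.1 (σ⁻¹ i), v.2)

theorem mono_mul (a b : Fin m → Kˣ) (σ τ : Perm (Fin m)) (v : (Fin m → K) × U) :
    mono a σ (mono b τ v) = mono (fun i => a i * b (σ⁻¹ i)) (σ * τ) v := by
  unfold mono
  apply Prod.ext
  · funext i
    simp only [Units.val_mul, mul_inv_rev, Perm.mul_apply]
    ring
  · rfl

theorem mono_one (v : (Fin m → K) × U) : mono 1 1 v = v := by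
  unfold mono
  apply Prod.ext
  · funext i
    simp
  · rfl

/-- coordinates determine the data -/
theorem mono_inj {a b : Fin m → Kˣ} {σ τ : Perm (Fin m)} (h : ∀ v : (Fin m → K) × U, mono a σ v = mono b τ v) :
    a = b ∧ σ = τ := by
  have h1 : ∀ i, σ⁻¹ i = τ⁻¹ i ∧ a i = b i := by
    intro i
    have h2 := congrArg (fun w : (Fin m → K) × U => w.1 i) (h (Pi.single (σ⁻¹ i) 1, 0))
    simp only [mono, Pi.single_eq_same, mul_one] at h2
    have h3 : τ⁻¹ i = σ⁻¹ i := by
      by_contra hne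
      rw [Pi.single_eq_of_ne hne, mul_zero] at h2
      exact (a i).ne_zero h2
    refine ⟨h3.symm, ?_⟩
    rw [h3, Pi.single_eq_same, mul_one] at h2
    exact Units.ext h2
  refine ⟨funext fun i => (h1 i).2, ?_⟩
  have h2 : σ⁻¹ = τ⁻¹ := Equiv.ext fun i => (h1 i).1
  exact inv_injective h2

variable (K U m)

/-- the monomial group -/
def Mon : Subgroup (((Fin m → K) × U) ≃ₗ[ZMod 2] ((Fin m → K) × U)) where
  carrier := {g | ∃ (a : Fin m → Kˣ) (σ : Perm (Fin m)), ∀ v, g v = mono a σ v}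
  mul_mem' := by
    rintro g h ⟨a, σ, hg⟩ ⟨b, τ, hh⟩
    refine ⟨fun i => a i * b (σ⁻¹ i), σ * τ, fun v => ?_⟩
    rw [LinearEquiv.mul_apply, hh, hg, mono_mul]
  one_mem' := ⟨1, 1, fun v => (mono_one v).symm⟩
  inv_mem' := by
    rintro g ⟨a, σ, hg⟩
    refine ⟨fun i => (a (σ i))⁻¹, σ⁻¹, fun v => ?_⟩
    apply g.injective
    have h1 : g (g⁻¹ v) = v := by
      rw [← LinearEquiv.mul_apply, mul_inv_cancel]; rfl
    rw [h1, hg, mono_mul]
    conv_lhs => rw [← mono_one v]
    congr 1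
    · funext i
      simp
    · rw [mul_inv_cancel]

variable {K U m}

/-- the element of the monomial group -/
def monoEquiv (a : Fin m → Kˣ) (σ : Perm (Fin m)) : ((Fin m → K) × U) ≃ₗ[ZMod 2] ((Fin m → K) × U) where
  toFun v := mono a σ v
  map_add' v w := by
    unfold mono
    apply Prod.ext
    · funext i
      simp only [Prod.fst_add, Pi.add_apply]
      ring
    · rfl
  map_smul' c v := by
    unfold mono
    apply Prod.ext
    · funext i
      simp only [Prod.smul_fst, Pi.smul_apply, RingHom.id_apply]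
      rw [mul_smul_comm]
    · rfl
  invFun v := mono (fun i => (a (σ i))⁻¹) σ⁻¹ v
  left_inv v := by
    show mono (fun i => (a (σ i))⁻¹) σ⁻¹ (mono a σ v) = v
    rw [mono_mul]
    conv_rhs => rw [← mono_one v]
    congr 1
    · funext i
      simp
    · rw [inv_mul_cancel]
  right_inv v := by
    show mono a σ (mono (fun i => (a (σ i))⁻¹) σ⁻¹ v) = v
    rw [mono_mul]
    conv_rhs => rw [← mono_one v]
    congr 1
    · funext i
      simp
    · rw [mul_inv_cancel]

/-- the order of the monomial group -/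
theorem card_Mon (h4 : Fintype.card K = 4) : Nat.card (Mon K U m) = 3 ^ m * m.factorial := by
  have e : ((Fin m → Kˣ) × Perm (Fin m)) ≃ Mon K U m :=
    Equiv.ofBijective (fun x => ⟨monoEquiv x.1 x.2, x.1, x.2, fun v => rfl⟩) (by
      constructor
      · rintro ⟨a, σ⟩ ⟨b, τ⟩ h
        have h1 : ∀ v, mono a σ v = mono b τ v := fun v =>
          congrArg (fun f : Mon K U m => (f : ((Fin m → K) × U) ≃ₗ[ZMod 2] ((Fin m → K) × U)) v) h
        obtain ⟨h2, h3⟩ := mono_inj h1
        rw [h2, h3]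
      · rintro ⟨g, a, σ, h⟩
        refine ⟨(a, σ), ?_⟩
        apply Subtype.ext
        apply LinearEquiv.ext
        intro v
        exact (h v).symm)
  rw [← Nat.card_congr e, Nat.card_prod, Nat.card_fun, Nat.card_units, Nat.card_eq_fintype_card (α := K), h4,
    Nat.card_eq_fintype_card (α := Fin m), Fintype.card_fin, Nat.card_eq_fintype_card, Fintype.card_perm,
    Fintype.card_fin]

/-- the permutations in a subgroup -/
def perms (R : Subgroup (((Fin m → K) × U) ≃ₗ[ZMod 2] ((Fin m → K) × U))) : Subgroup (Perm (Fin m)) where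
  carrier := {σ | ∃ g ∈ R, ∃ a : Fin m → Kˣ, ∀ v, g v = mono a σ v}
  mul_mem' := by
    rintro σ τ ⟨g, hg, a, hga⟩ ⟨h, hh, b, hhb⟩
    refine ⟨g * h, mul_mem hg hh, fun i => a i * b (σ⁻¹ i), fun v => ?_⟩
    rw [LinearEquiv.mul_apply, hhb, hga, mono_mul]
  one_mem' := ⟨1, one_mem _, 1, fun v => (mono_one v).symm⟩
  inv_mem' := by
    rintro σ ⟨g, hg, a, hga⟩
    refine ⟨g⁻¹, inv_mem hg, fun i => (a (σ i))⁻¹, fun v => ?_⟩
    apply g.injective
    have h1 : g (g⁻¹ v) = v := by
      rw [← LinearEquiv.mul_apply, mul_inv_cancel]; rfl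
    rw [h1, hga, mono_mul]
    conv_lhs => rw [← mono_one v]
    congr 1
    · funext i
      simp
    · rw [mul_inv_cancel]

theorem mono_pow {g : ((Fin m → K) × U) ≃ₗ[ZMod 2] ((Fin m → K) × U)} {a : Fin m → Kˣ} {σ : Perm (Fin m)}
    (h : ∀ v, g v = mono a σ v) (k : ℕ) : ∃ b : Fin m → Kˣ, ∀ v, (g ^ k) v = mono b (σ ^ k) v := by
  induction k with
  | zero => exact ⟨1, fun v => (mono_one v).symm⟩
  | succ k ih =>
    obtain ⟨b, hb⟩ := ih
    refine ⟨fun i => b i * a ((σ ^ k)⁻¹ i), fun v => ?_⟩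
    rw [pow_succ, LinearEquiv.mul_apply, h, hb, mono_mul, pow_succ]

theorem perms_pgroup {p : ℕ} {R : Subgroup (((Fin m → K) × U) ≃ₗ[ZMod 2] ((Fin m → K) × U))} (hR : IsPGroup p R) :
    IsPGroup p (perms R) := by
  rintro ⟨σ, g, hg, a, hga⟩
  obtain ⟨k, hk⟩ := hR ⟨g, hg⟩
  refine ⟨k, ?_⟩
  apply Subtype.ext
  obtain ⟨b, hb⟩ := mono_pow hga (p ^ k)
  have h1 : g ^ p ^ k = 1 := congrArg Subtype.val hk
  rw [h1] at hb
  have h2 : ∀ v : (Fin m → K) × U, mono 1 1 v = mono b (σ ^ p ^ k) v := fun v => by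
    rw [← hb v, mono_one]; rfl
  exact (mono_inj h2).2.symm

/-- a transvection -/
def tv {V : Type} [AddCommGroup V] [Module (ZMod 2) V] (f : V →ₗ[ZMod 2] ZMod 2) (u : V) (h : f u = 0) :
    V ≃ₗ[ZMod 2] V :=
  LinearEquiv.ofInvolutive (LinearMap.id + f.smulRight u) (fun v => by
    show (v + f v • u) + f (v + f v • u) • u = v
    rw [map_add, map_smul, h, smul_zero, add_zero, add_assoc, ← add_smul, CharTwo.add_self_eq_zero, zero_smul,
      add_zero])

theorem tv_apply {V : Type} [AddCommGroup V] [Module (ZMod 2) V] (f : V →ₗ[ZMod 2] ZMod 2) (u : V) (h : f u = 0)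
    (v : V) : tv f u h v = v + f v • u := rfl

theorem tv_inv {V : Type} [AddCommGroup V] [Module (ZMod 2) V] (f : V →ₗ[ZMod 2] ZMod 2) (u : V) (h : f u = 0) :
    (tv f u h)⁻¹ = tv f u h := rfl

/-- the commutator of `tv` and `y` -/
theorem comm_tv {V : Type} [AddCommGroup V] [Module (ZMod 2) V] (f : V →ₗ[ZMod 2] ZMod 2) (u : V) (h : f u = 0)
    (y : V ≃ₗ[ZMod 2] V) (w : V) :
    ∃ α β : ZMod 2, (tv f u h * y * (tv f u h)⁻¹ * y⁻¹) w = w + α • u + β • y u := by
  rw [tv_inv]
  refine ⟨f (w + f (y⁻¹ w) • y u), f (y⁻¹ w), ?_⟩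
  have h1 : y (y⁻¹ w) = w := by
    rw [← LinearEquiv.mul_apply, mul_inv_cancel]; rfl
  rw [LinearEquiv.mul_apply, LinearEquiv.mul_apply, LinearEquiv.mul_apply, tv_apply f u h (y⁻¹ w), map_add, map_smul,
    h1, tv_apply]
  abel

/-- **The main step.** -/
theorem meet_mon (h4 : Fintype.card K = 4) (hm : 2 ≤ m)
    (R : Subgroup (((Fin m → K) × U) ≃ₗ[ZMod 2] ((Fin m → K) × U))) (hR : IsPGroup 3 R) (hRM : R ≤ Mon K U m) :
    ∃ x : ((Fin m → K) × U) ≃ₗ[ZMod 2] ((Fin m → K) × U), ∀ y ∈ R, x * y * x⁻¹ ∈ R → y = 1 := by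
  classical
  have h3 : Fact (Nat.Prime 3) := ⟨Nat.prime_three⟩
  -- the linear form on `K`
  obtain ⟨t, ht1, k0, hk0⟩ : ∃ t : K →ₗ[ZMod 2] ZMod 2, t 1 = 0 ∧ ∃ k, t k = 1 := by
    have hlt : Submodule.span (ZMod 2) {(1 : K)} < ⊤ := by
      rw [lt_top_iff_ne_top]
      intro htop
      have h5 : Nat.card (Submodule.span (ZMod 2) {(1 : K)}) ≤ 2 := by
        have h6 : Function.Surjective (fun c : ZMod 2 => (⟨c • (1 : K), Submodule.smul_mem _ _
            (Submodule.mem_span_singleton_self _)⟩ : Submodule.span (ZMod 2) {(1 : K)})) := by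
          rintro ⟨x, hx⟩
          obtain ⟨c, hc⟩ := Submodule.mem_span_singleton.1 hx
          exact ⟨c, Subtype.ext hc⟩
        have h7 := Nat.card_le_card_of_surjective _ h6
        simpa using h7
      rw [htop] at h5
      have h6 : Nat.card (⊤ : Submodule (ZMod 2) K) = 4 := by
        rw [Nat.card_congr (Submodule.topEquiv (R := ZMod 2) (M := K)).toEquiv, Nat.card_eq_fintype_card, h4]
      omega
    obtain ⟨t, ht0, ht⟩ := Submodule.exists_le_ker_of_lt_top _ hlt
    refine ⟨t, ht (Submodule.mem_span_singleton_self _), ?_⟩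
    by_contra hcon
    push Not at hcon
    apply ht0
    ext k
    have : ∀ s : ZMod 2, s ≠ 1 → s = 0 := by decide
    exact this _ (hcon k)
  obtain ⟨c0, hc0⟩ := exists_color (p := 3) (by norm_num) (perms R) (perms_pgroup hR)
  -- a colouring which is not constant `false`
  obtain ⟨c, i0, hi0, hc⟩ : ∃ c : Fin m → Bool, ∃ i0, c i0 = true ∧
      ∀ g ∈ perms R, (∀ a, c (g a) = c a) → g = 1 := by
    by_cases h5 : c0 ⟨0, by omega⟩ = true
    · exact ⟨c0, _, h5, hc0⟩
    · refine ⟨fun i => !c0 i, ⟨0, by omega⟩, by simpa using h5, fun g hg h => hc0 g hg fun a => ?_⟩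
      exact Bool.not_inj (h a)
  let d : Fin m → ZMod 2 := fun i => if c i then 1 else 0
  have hd : ∀ i j, d i = d j → c i = c j := by
    intro i j h
    simp only [d] at h
    by_cases h1 : c i <;> by_cases h2 : c j <;> simp_all
  let u : (Fin m → K) × U := (fun _ => 1, 0)
  let f : ((Fin m → K) × U) →ₗ[ZMod 2] ZMod 2 :=
    { toFun := fun v => ∑ i, d i * t (v.1 i)
      map_add' := fun v w => by
        rw [← Finset.sum_add_distrib]
        refine Finset.sum_congr rfl fun i _ => ?_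
        rw [Prod.fst_add, Pi.add_apply, map_add, mul_add]
      map_smul' := fun s v => by
        rw [RingHom.id_apply, smul_eq_mul, Finset.mul_sum]
        refine Finset.sum_congr rfl fun i _ => ?_
        rw [Prod.smul_fst, Pi.smul_apply, map_smul, smul_eq_mul]
        ring }
  have hf : ∀ v, f v = ∑ i, d i * t (v.1 i) := fun v => rfl
  have hfu : f u = 0 := by
    rw [hf]
    exact Finset.sum_eq_zero fun i _ => by
      show d i * t 1 = 0
      rw [ht1, mul_zero]
  have hfs : ∀ i k, f (Pi.single i k, 0) = d i * t k := by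
    intro i k
    rw [hf, Finset.sum_eq_single i]
    · show d i * t ((Pi.single i k : Fin m → K) i) = _
      rw [Pi.single_eq_same]
    · intro j _ hj
      show d j * t ((Pi.single i k : Fin m → K) j) = _
      rw [Pi.single_eq_of_ne hj, map_zero, mul_zero]
    · intro h; exact absurd (Finset.mem_univ i) h
  refine ⟨tv f u hfu, fun y hy hxy => ?_⟩
  set x := tv f u hfu with hx
  -- the element `z`
  obtain ⟨z, hz⟩ : ∃ z, z = x * y * x⁻¹ * y⁻¹ := ⟨_, rfl⟩
  have hzR : z ∈ R := by rw [hz]; exact mul_mem hxy (inv_mem hy)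
  obtain ⟨b, τ, hbτ⟩ := hRM hzR
  have hzc : ∀ w, ∃ α β : ZMod 2, z w = w + α • u + β • y u := by
    intro w
    rw [hz]
    exact comm_tv f u hfu y w
  have hτR : τ ∈ perms R := ⟨z, hzR, b, hbτ⟩
  -- no permutation part
  have hτ1 : τ = 1 := by
    by_contra hne
    obtain ⟨i, hi⟩ : ∃ i, τ⁻¹ i ≠ i := by
      by_contra hcon
      push Not at hcon
      apply hne
      rw [← inv_inj, inv_one]
      exact Equiv.ext hcon
    have hodd : τ⁻¹ (τ⁻¹ i) ≠ i := by
      intro h5
      obtain ⟨k, hk⟩ := perms_pgroup hR ⟨τ, hτR⟩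
      have h6 : τ ^ 3 ^ k = 1 := congrArg Subtype.val hk
      obtain ⟨l, hl⟩ : Odd (3 ^ k) := Odd.pow (by decide)
      have h7 : ∀ j : ℕ, (τ⁻¹ ^ (2 * j)) i = i := by
        intro j
        induction j with
        | zero => rfl
        | succ j ihj =>
          rw [Nat.mul_succ, pow_add, Perm.mul_apply]
          have : (τ⁻¹ ^ 2) i = i := by rw [pow_two, Perm.mul_apply, h5]
          rw [this, ihj]
      have h8 : (τ⁻¹ ^ (2 * l + 1)) i = i := by rw [← hl, inv_pow, h6]; rfl
      rw [pow_succ', Perm.mul_apply, h7] at h8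
      exact hi h8
    have hne2 : τ⁻¹ (τ⁻¹ i) ≠ τ⁻¹ i := fun h => hi (τ⁻¹.injective h)
    choose α β hαβ using fun kl : K × K => hzc (Pi.single (τ⁻¹ i) kl.1 + Pi.single (τ⁻¹ (τ⁻¹ i)) kl.2, 0)
    have hinj : Function.Injective (fun kl : K × K => (α kl, β kl)) := by
      intro kl kl' h
      have hα : α kl = α kl' := congrArg Prod.fst h
      have hβ : β kl = β kl' := congrArg Prod.snd h
      have h5 : ∀ q : K × K, z (Pi.single (τ⁻¹ i) q.1 + Pi.single (τ⁻¹ (τ⁻¹ i)) q.2, 0) -
          (Pi.single (τ⁻¹ i) q.1 + Pi.single (τ⁻¹ (τ⁻¹ i)) q.2, 0) = α q • u + β q • y u := by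
        intro q
        rw [hαβ]
        abel
      have h6 : ∀ q : K × K, (z (Pi.single (τ⁻¹ i) q.1 + Pi.single (τ⁻¹ (τ⁻¹ i)) q.2, 0) -
          (Pi.single (τ⁻¹ i) q.1 + Pi.single (τ⁻¹ (τ⁻¹ i)) q.2, 0)).1 i = (b i : K) * q.1 ∧
          (z (Pi.single (τ⁻¹ i) q.1 + Pi.single (τ⁻¹ (τ⁻¹ i)) q.2, 0) -
          (Pi.single (τ⁻¹ i) q.1 + Pi.single (τ⁻¹ (τ⁻¹ i)) q.2, 0)).1 (τ⁻¹ i) =
            (b (τ⁻¹ i) : K) * q.2 - q.1 := by
        intro q
        rw [hbτ]
        constructor
        · show (b i : K) * ((Pi.single (τ⁻¹ i) q.1 + Pi.single (τ⁻¹ (τ⁻¹ i)) q.2 : Fin m → K) (τ⁻¹ i)) -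
            (Pi.single (τ⁻¹ i) q.1 + Pi.single (τ⁻¹ (τ⁻¹ i)) q.2 : Fin m → K) i = _
          rw [Pi.add_apply, Pi.add_apply, Pi.single_eq_same, Pi.single_eq_of_ne hne2.symm,
            Pi.single_eq_of_ne hi.symm, Pi.single_eq_of_ne hodd.symm]
          ring
        · show (b (τ⁻¹ i) : K) * ((Pi.single (τ⁻¹ i) q.1 + Pi.single (τ⁻¹ (τ⁻¹ i)) q.2 : Fin m → K)
              (τ⁻¹ (τ⁻¹ i))) - (Pi.single (τ⁻¹ i) q.1 + Pi.single (τ⁻¹ (τ⁻¹ i)) q.2 : Fin m → K) (τ⁻¹ i) = _
          rw [Pi.add_apply, Pi.add_apply, Pi.single_eq_same, Pi.single_eq_same, Pi.single_eq_of_ne hne2,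
            Pi.single_eq_of_ne hne2.symm]
          ring
      have h7 : (b i : K) * kl.1 = (b i : K) * kl'.1 := by
        rw [← (h6 kl).1, ← (h6 kl').1, h5, h5, hα, hβ]
      have h8 : (b (τ⁻¹ i) : K) * kl.2 - kl.1 = (b (τ⁻¹ i) : K) * kl'.2 - kl'.1 := by
        rw [← (h6 kl).2, ← (h6 kl').2, h5, h5, hα, hβ]
      have h9 : kl.1 = kl'.1 := mul_left_cancel₀ (b i).ne_zero h7
      rw [h9] at h8
      have h10 : kl.2 = kl'.2 := mul_left_cancel₀ (b (τ⁻¹ i)).ne_zero (sub_left_inj.1 h8)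
      exact Prod.ext h9 h10
    have h5 := Fintype.card_le_of_injective _ hinj
    rw [Fintype.card_prod, Fintype.card_prod, h4, ZMod.card] at h5
    omega
  subst hτ1
  -- no diagonal part
  have hb1 : b = 1 := by
    funext j
    by_contra hne
    have hbj : (b j : K) - 1 ≠ 0 := by
      intro h5
      exact hne (Units.ext (sub_eq_zero.1 h5))
    choose α β hαβ using fun k : K => hzc (Pi.single j k, 0)
    have h5 : ∀ k : K, ((Pi.single j (((b j : K) - 1) * k) : Fin m → K), (0 : U)) = α k • u + β k • y u := by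
      intro k
      have h6 : z (Pi.single j k, 0) - (Pi.single j k, 0) = α k • u + β k • y u := by
        rw [hαβ]
        abel
      rw [← h6, hbτ]
      apply Prod.ext
      · funext l
        show (Pi.single j (((b j : K) - 1) * k) : Fin m → K) l =
          (b l : K) * (Pi.single j k : Fin m → K) ((1 : Perm (Fin m))⁻¹ l) - (Pi.single j k : Fin m → K) l
        rw [inv_one, Perm.one_apply]
        by_cases hl : l = j
        · subst hl
          rw [Pi.single_eq_same, Pi.single_eq_same]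
          ring
        · rw [Pi.single_eq_of_ne hl, Pi.single_eq_of_ne hl]
          ring
      · show (0 : U) = 0 - 0
        rw [sub_zero]
    have hinj : Function.Injective (fun k : K => (α k, β k)) := by
      intro k k' h
      have hα : α k = α k' := congrArg Prod.fst h
      have hβ : β k = β k' := congrArg Prod.snd h
      have h6 := h5 k
      rw [hα, hβ, ← h5 k'] at h6
      have h7 := congrArg (fun w : (Fin m → K) × U => w.1 j) h6
      simp only [Pi.single_eq_same] at h7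
      exact mul_left_cancel₀ hbj h7
    have hsur : Function.Surjective (fun k : K => (α k, β k)) := by
      refine ((Fintype.bijective_iff_injective_and_card _).2 ⟨hinj, ?_⟩).2
      rw [h4, Fintype.card_prod, ZMod.card]
    obtain ⟨k, hk⟩ := hsur (1, 0)
    have hα : α k = 1 := congrArg Prod.fst hk
    have hβ : β k = 0 := congrArg Prod.snd hk
    have h6 := h5 k
    rw [hα, hβ, one_smul, zero_smul, add_zero] at h6
    -- another coordinate
    obtain ⟨l, hl⟩ : ∃ l : Fin m, l ≠ j := by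
      have : Nontrivial (Fin m) := Fin.nontrivial_iff_two_le.2 hm
      exact exists_ne j
    have h7 := congrArg (fun w : (Fin m → K) × U => w.1 l) h6
    simp only [Pi.single_eq_of_ne hl] at h7
    exact zero_ne_one h7
  subst hb1
  have hz1 : z = 1 := by
    apply LinearEquiv.ext
    intro v
    rw [hbτ, mono_one]; rfl
  -- commutation
  have hcomm : x * y = y * x := by
    rw [hz] at hz1
    exact mul_inv_eq_iff_eq_mul.1 (mul_inv_eq_one.1 hz1)
  have hcv : ∀ v, f (y v) • u = f v • y u := by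
    intro v
    have h5 := congrArg (fun g : ((Fin m → K) × U) ≃ₗ[ZMod 2] ((Fin m → K) × U) => g v) hcomm
    simp only [LinearEquiv.mul_apply] at h5
    rw [hx, tv_apply, tv_apply, map_add, map_smul] at h5
    exact add_left_cancel h5
  have hu0 : u ≠ 0 := by
    intro h5
    have h6 := congrArg (fun w : (Fin m → K) × U => w.1 ⟨0, by omega⟩) h5
    exact one_ne_zero h6
  have hyu0 : y u ≠ 0 := fun h5 => hu0 ((LinearEquiv.map_eq_zero_iff y).1 h5)
  have h01 : ∀ s : ZMod 2, s ≠ 0 → s = 1 := by decide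
  have hfy : f (y (Pi.single i0 k0, 0)) = 1 ∧ y u = u := by
    have h5 := hcv (Pi.single i0 k0, 0)
    have h6 : f (Pi.single i0 k0, 0) = 1 := by
      rw [hfs, hk0, mul_one]
      simp only [d]
      rw [if_pos hi0]
    rw [h6, one_smul] at h5
    have h7 : f (y (Pi.single i0 k0, 0)) = 1 := by
      apply h01
      intro h8
      rw [h8, zero_smul] at h5
      exact hyu0 h5.symm
    rw [h7, one_smul] at h5
    exact ⟨h7, h5.symm⟩
  have hyu := hfy.2
  have hfv : ∀ v, f (y v) = f v := by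
    intro v
    have h5 := hcv v
    rw [hyu] at h5
    have h6 : (f (y v) - f v) • u = 0 := by rw [sub_smul, h5, sub_self]
    by_contra hne
    have h7 : f (y v) - f v = 1 := h01 _ (sub_ne_zero.2 hne)
    rw [h7, one_smul] at h6
    exact hu0 h6
  obtain ⟨a, σ, haσ⟩ := hRM hy
  have ha1 : a = 1 := by
    funext i
    have h5 := congrArg (fun w : (Fin m → K) × U => w.1 i) hyu
    rw [haσ] at h5
    have h6 : (a i : K) * 1 = 1 := h5
    rw [mul_one] at h6
    exact Units.ext h6
  subst ha1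
  have hσ1 : σ = 1 := by
    apply hc σ ⟨y, hy, 1, haσ⟩
    intro i
    apply hd
    have h5 := hfv (Pi.single i k0, 0)
    have h6 : y (Pi.single i k0, 0) = (Pi.single (σ i) k0, 0) := by
      rw [haσ]
      apply Prod.ext
      · funext j
        show ((1 : Kˣ) : K) * (Pi.single i k0 : Fin m → K) (σ⁻¹ j) = (Pi.single (σ i) k0 : Fin m → K) j
        rw [Units.val_one, one_mul]
        by_cases hj : j = σ i
        · subst hj
          rw [show σ⁻¹ (σ i) = i by simp, Pi.single_eq_same, Pi.single_eq_same]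
        · rw [Pi.single_eq_of_ne hj, Pi.single_eq_of_ne]
          intro h7
          apply hj
          rw [← h7]; simp
      · rfl
    rw [h6, hfs, hfs, hk0, mul_one, mul_one] at h5
    exact h5
  subst hσ1
  apply LinearEquiv.ext
  intro v
  rw [haσ, mono_one]; rfl

end model

end Cfsg.Agent.H124.Sy
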