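import Cfsg.Agent.H124.Sy.GLTwo
import Cfsg.Agent.H897.MeetPSL
import Cfsg.Agent.LieClassical.SLGen

/-!
# The row `PSL_n(2)`, `p = 3`, of S2484 / S5760 (helper124)
-/

set_option autoImplicit false

namespace Cfsg.Agent.H124.Sy

open Matrix Equiv Module Cfsg.Agent.H68.MeetB Cfsg.Agent.H903.SylMeet Cfsg.Agent.H199.PslAut
open Cfsg.Agent.ClassicalGeometry.AutPSL.Root
open Cfsg.Agent.ClassicalGeometry.AutPSL.Auto

/-! ### The `3`-part of the order -/

theorem val_odd (m : ℕ) : padicValNat 3 (2 ^ (2 * m + 1) - 1) = 0 := by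
  apply padicValNat.eq_zero_of_not_dvd
  have h1 : 2 ^ (2 * m + 1) % 3 = 2 := by
    rw [pow_succ, pow_mul, Nat.mul_mod, Nat.pow_mod]
    norm_num
  generalize 2 ^ (2 * m + 1) = x at h1
  omega

theorem val_even (m : ℕ) : padicValNat 3 (2 ^ (2 * (m + 1)) - 1) = 1 + padicValNat 3 (m + 1) := by
  have h1 : 2 ^ (2 * (m + 1)) - 1 = 4 ^ (m + 1) - 1 ^ (m + 1) := by
    rw [pow_mul, one_pow]; norm_num
  rw [h1, padicValNat.pow_sub_pow (p := 3) (by decide) (by norm_num) (by norm_num) (by norm_num) (Nat.succ_ne_zero m)]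
  congr 1
  have : (4 - 1 : ℕ) = 3 := by norm_num
  rw [this]
  exact padicValNat.self (by norm_num)

/-- `∏ (2 ^ j - 1)` -/
def B (n : ℕ) : ℕ := ∏ j ∈ Finset.range n, (2 ^ (j + 1) - 1)

theorem B_ne (n : ℕ) : B n ≠ 0 := by
  unfold B
  refine Finset.prod_ne_zero_iff.2 fun j _ => ?_
  have : 1 < 2 ^ (j + 1) := Nat.one_lt_two_pow (Nat.succ_ne_zero j)
  omega

theorem B_succ (n : ℕ) : B (n + 1) = B n * (2 ^ (n + 1) - 1) := Finset.prod_range_succ _ n

theorem pow_ne (n : ℕ) : 2 ^ (n + 1) - 1 ≠ 0 := by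
  have : 1 < 2 ^ (n + 1) := Nat.one_lt_two_pow (Nat.succ_ne_zero n)
  omega

theorem val_B_even (m : ℕ) : padicValNat 3 (B (2 * m)) = padicValNat 3 (3 ^ m * m.factorial) := by
  induction m with
  | zero => simp [B]
  | succ m ih =>
    have h1 : 2 * (m + 1) = 2 * m + 1 + 1 := by ring
    have h2 : padicValNat 3 (3 ^ (m + 1) * (m + 1).factorial) =
        padicValNat 3 (3 ^ m * m.factorial) + (1 + padicValNat 3 (m + 1)) := by
      rw [pow_succ, Nat.factorial_succ, show 3 ^ m * 3 * ((m + 1) * m.factorial) = (3 ^ m * m.factorial) * (3 * (m + 1))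
        by ring, padicValNat.mul (mul_ne_zero (pow_ne_zero _ (by norm_num)) m.factorial_ne_zero)
          (mul_ne_zero (by norm_num) (Nat.succ_ne_zero m)), padicValNat.mul (by norm_num) (Nat.succ_ne_zero m),
        padicValNat.self (by norm_num)]
    rw [h2, ← val_even m, ← ih, h1, B_succ, B_succ, padicValNat.mul (mul_ne_zero (B_ne _) (pow_ne _)) (pow_ne _),
      padicValNat.mul (B_ne _) (pow_ne _), val_odd, add_zero]

theorem val_B_odd (m : ℕ) : padicValNat 3 (B (2 * m + 1)) = padicValNat 3 (3 ^ m * m.factorial) := by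
  rw [B_succ, padicValNat.mul (B_ne _) (pow_ne _), val_odd, add_zero, val_B_even]

theorem card_GL_two (n : ℕ) : ∃ k, Nat.card (GL (Fin n) (ZMod 2)) = 2 ^ k * B n := by
  rw [card_GL_field, ZMod.card, Fin.prod_univ_eq_prod_range (fun i => 2 ^ n - 2 ^ i) n]
  refine ⟨∑ i ∈ Finset.range n, i, ?_⟩
  rw [B, ← Finset.prod_range_reflect (fun j => 2 ^ (j + 1) - 1) n, ← Finset.prod_pow_eq_pow_sum,
    ← Finset.prod_mul_distrib]
  refine Finset.prod_congr rfl fun i hi => ?_
  have hi' := Finset.mem_range.1 hi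
  rw [Nat.mul_sub, mul_one, ← pow_add]
  congr 2
  omega

theorem val_card_GL (n m : ℕ) (h : n = 2 * m ∨ n = 2 * m + 1) :
    padicValNat 3 (Nat.card (GL (Fin n) (ZMod 2))) = padicValNat 3 (3 ^ m * m.factorial) := by
  obtain ⟨k, hk⟩ := card_GL_two n
  have h2 : padicValNat 3 (2 ^ k) = 0 := by
    apply padicValNat.eq_zero_of_not_dvd
    intro h
    have := (Nat.prime_three).dvd_of_dvd_pow h
    omega
  rw [hk, padicValNat.mul (pow_ne_zero _ (by norm_num)) (B_ne _), h2, zero_add]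
  rcases h with rfl | rfl
  · exact val_B_even m
  · exact val_B_odd m

/-! ### Transport -/

/-- conjugation by a linear isomorphism -/
def conjLin {V W : Type*} [AddCommGroup V] [Module (ZMod 2) V] [AddCommGroup W] [Module (ZMod 2) W]
    (φ : V ≃ₗ[ZMod 2] W) : (V ≃ₗ[ZMod 2] V) ≃* (W ≃ₗ[ZMod 2] W) where
  toFun g := (φ.symm.trans g).trans φ
  invFun g := (φ.trans g).trans φ.symm
  left_inv g := by ext; simp
  right_inv g := by ext; simp
  map_mul' g h := by ext; simp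

theorem meetIn_GL {n : ℕ} (hn : 4 ≤ n) : MeetIn 3 (GL (Fin n) (ZMod 2)) := by
  classical
  have h3 : Fact (Nat.Prime 3) := ⟨Nat.prime_three⟩
  obtain ⟨m, ε, hε⟩ : ∃ m ε, n = 2 * m + ε ∧ (ε = 0 ∨ ε = 1) := ⟨n / 2, n % 2, by omega, by omega⟩
  have hm : 2 ≤ m := by omega
  let K := GaloisField 2 2
  have : Fintype K := Fintype.ofFinite K
  have h4 : Fintype.card K = 4 := by
    rw [← Nat.card_eq_fintype_card, GaloisField.card 2 2 (by norm_num)]
    norm_num
  let U := Fin ε → ZMod 2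
  have hfK : Module.finrank (ZMod 2) K = 2 := GaloisField.finrank 2 (by norm_num)
  have hfin : Module.finrank (ZMod 2) ((Fin m → K) × U) = n := by
    rw [Module.finrank_prod, Module.finrank_pi_fintype, Module.finrank_fin_fun]
    simp only [hfK, Finset.sum_const, Finset.card_univ, Fintype.card_fin, smul_eq_mul]
    omega
  let φ : ((Fin m → K) × U) ≃ₗ[ZMod 2] (Fin n → ZMod 2) := LinearEquiv.ofFinrankEq _ _ (by
    rw [hfin, Module.finrank_fin_fun])
  let e : (((Fin m → K) × U) ≃ₗ[ZMod 2] ((Fin m → K) × U)) ≃* GL (Fin n) (ZMod 2) :=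
    ((conjLin φ).trans (LinearMap.GeneralLinearGroup.generalLinearEquiv (ZMod 2) (Fin n → ZMod 2)).symm).trans
      (Matrix.GeneralLinearGroup.toLin (n := Fin n) (R := ZMod 2)).symm
  have hfinT : Finite (((Fin m → K) × U) ≃ₗ[ZMod 2] ((Fin m → K) × U)) := Finite.of_equiv _ e.symm.toEquiv
  refine MeetIn.congr e ?_
  -- a Sylow subgroup of the monomial group
  obtain ⟨P⟩ : Nonempty (Sylow 3 (Mon K U m)) := inferInstance
  have hcard := Subgroup.card_mul_index (Mon K U m)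
  have hidx : ¬ 3 ∣ (Mon K U m).index := by
    have h5 : Nat.card (((Fin m → K) × U) ≃ₗ[ZMod 2] ((Fin m → K) × U)) = Nat.card (GL (Fin n) (ZMod 2)) :=
      Nat.card_congr e.toEquiv
    have h6 := congrArg (padicValNat 3) hcard
    have hi0 : (Mon K U m).index ≠ 0 := Subgroup.index_ne_zero_of_finite
    rw [h5, val_card_GL n m (by omega), card_Mon h4, padicValNat.mul (mul_ne_zero (pow_ne_zero _ (by norm_num))
      m.factorial_ne_zero) hi0] at h6
    intro h7
    have h8 := one_le_padicValNat_of_dvd hi0 h7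
    omega
  refine MeetIn.of_one ((P : Subgroup (Mon K U m)).map (Mon K U m).subtype) (P.isPGroup'.map _) ?_ ?_
  · rw [Subgroup.index_map, Subgroup.ker_subtype, sup_bot_eq, Subgroup.range_subtype]
    intro h1
    rcases (Fact.out : (3 : ℕ).Prime).dvd_mul.1 h1 with h2 | h2
    · exact P.not_dvd_index h2
    · exact hidx h2
  · refine meet_mon h4 hm _ (P.isPGroup'.map _) ?_
    rintro _ ⟨g, -, rfl⟩
    exact g.2

/-- `GL_n(2) ≃ PSL_n(2)` -/
theorem toGL_surj {n : ℕ} (g : GL (Fin n) (ZMod 2)) : ∃ s : Matrix.SpecialLinearGroup (Fin n) (ZMod 2),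
    Matrix.SpecialLinearGroup.toGL s = g := by
  have h1 : (g : Matrix (Fin n) (Fin n) (ZMod 2)).det = 1 := by
    have h2 : ∀ s : ZMod 2, s ≠ 0 → s = 1 := by decide
    apply h2
    intro h0
    have h3 := (Matrix.GeneralLinearGroup.det g).ne_zero
    exact h3 h0
  exact ⟨⟨g, h1⟩, Units.ext rfl⟩

theorem center_sl {n : ℕ} : Subgroup.center (Matrix.SpecialLinearGroup (Fin n) (ZMod 2)) = ⊥ := by
  rw [eq_bot_iff]
  intro A hA
  obtain ⟨r, hr, hA'⟩ := Matrix.SpecialLinearGroup.mem_center_iff.1 hA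
  rw [Subgroup.mem_bot]
  rcases isEmpty_or_nonempty (Fin n) with hn | hn
  · exact Subsingleton.elim _ _
  have h2 : ∀ s : ZMod 2, s ≠ 0 → s = 1 := by decide
  have h3 : r = 1 := h2 r (by
    rintro rfl
    rw [zero_pow Fintype.card_ne_zero] at hr
    exact zero_ne_one hr)
  apply Subtype.ext
  rw [← hA', h3, map_one]
  rfl

theorem toGL_inj {n : ℕ} : Function.Injective (Matrix.SpecialLinearGroup.toGL (n := Fin n) (R := ZMod 2)) := by
  intro s t h
  apply Subtype.ext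
  exact congrArg (fun g : GL (Fin n) (ZMod 2) => (g : Matrix (Fin n) (Fin n) (ZMod 2))) h

theorem exists_gl_psl (n : ℕ) :
    Nonempty (GL (Fin n) (ZMod 2) ≃* Matrix.ProjectiveSpecialLinearGroup (Fin n) (ZMod 2)) := by
  have e1 : Matrix.SpecialLinearGroup (Fin n) (ZMod 2) ≃* GL (Fin n) (ZMod 2) :=
    MulEquiv.ofBijective _ ⟨toGL_inj, fun g => toGL_surj g⟩
  have e2 : Matrix.ProjectiveSpecialLinearGroup (Fin n) (ZMod 2) ≃*
      Matrix.SpecialLinearGroup (Fin n) (ZMod 2) :=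
    (QuotientGroup.quotientMulEquivOfEq center_sl).trans QuotientGroup.quotientBot
  exact ⟨e1.symm.trans e2.symm⟩

/-- automorphisms of order `p`, `p` odd, of `PSL_n(2)` are inner -/
theorem autInner_psl {n : ℕ} (hn : 2 ≤ n) {p : ℕ} [hp : Fact p.Prime] (hp2 : p ≠ 2) :
    Cfsg.Agent.CpAut.AutInner p (Matrix.ProjectiveSpecialLinearGroup (Fin n) (ZMod 2)) := by
  intro β hβ
  have hP : IsPGroup p (Subgroup.zpowers β) := by
    apply IsPGroup.of_card (n := 1)
    rw [Nat.card_zpowers, hβ, pow_one]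
  obtain ⟨g, σ, h⟩ := Cfsg.Agent.H897.MeetPSL.form_of_pgroup hn hp2 hP (Subgroup.mem_zpowers β)
  have hσ : σ = 1 := Subsingleton.elim _ _
  obtain ⟨s, rfl⟩ := toGL_surj g
  rw [hσ, map_one, mul_one] at h
  refine ⟨pr s, ?_⟩
  rw [h]
  exact Psi_coe s

/-- **The row `PSL_n(2)`, `n ≥ 4`.** -/
theorem meet3_PSL_two_four {n : ℕ} (hn : 4 ≤ n) :
    Cfsg.Agent.H903.SylMeet.Meet 3 (Matrix.ProjectiveSpecialLinearGroup (Fin n) (ZMod 2)) := by
  have h3 : Fact (Nat.Prime 3) := ⟨Nat.prime_three⟩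
  obtain ⟨e⟩ := exists_gl_psl n
  have hs : IsSimpleGroup (Matrix.ProjectiveSpecialLinearGroup (Fin n) (ZMod 2)) :=
    Cfsg.Agent.LieClassical.SLGen.psl_isSimpleGroup (by simp; omega)
  have hfin : Finite (GL (Fin n) (ZMod 2)) := inferInstance
  refine MeetIn.meet (autInner_psl (by omega) (by norm_num)) ?_ ((meetIn_GL hn).congr e)
  intro hc
  have e2 : Matrix.ProjectiveSpecialLinearGroup (Fin n) (ZMod 2) ≃*
      Matrix.SpecialLinearGroup (Fin n) (ZMod 2) :=
    (QuotientGroup.quotientMulEquivOfEq center_sl).trans QuotientGroup.quotientBot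
  have h1 : ∀ a b : Matrix.SpecialLinearGroup (Fin n) (ZMod 2), a * b = b * a := by
    intro a b
    apply e2.symm.injective
    rw [map_mul, map_mul]
    exact hc.is_comm.comm _ _
  have h2 : ∀ a : Matrix.SpecialLinearGroup (Fin n) (ZMod 2), a = 1 := by
    intro a
    have h4 : a ∈ Subgroup.center (Matrix.SpecialLinearGroup (Fin n) (ZMod 2)) :=
      Subgroup.mem_center_iff.2 fun b => h1 b a
    rw [center_sl] at h4
    exact Subgroup.mem_bot.1 h4
  obtain ⟨x, hx⟩ := exists_ne (1 : Matrix.ProjectiveSpecialLinearGroup (Fin n) (ZMod 2))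
  apply hx
  apply e2.injective
  rw [h2 (e2 x), map_one]

/-- **The row `PSL_n(2)`.** -/
theorem meet3_PSL_two {n : ℕ} (hn : 5 ≤ n) :
    Cfsg.Agent.H903.SylMeet.Meet 3 (Matrix.ProjectiveSpecialLinearGroup (Fin n) (ZMod 2)) :=
  meet3_PSL_two_four (by omega)

end Cfsg.Agent.H124.Sy
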